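import Groth.Prelude.Def_DerCA
import Mathlib

/-!
Two out of three for essentially constant systems in a triangulated category.
-/

set_option autoImplicit false
universe v u

open CategoryTheory CategoryTheory.Limits CategoryTheory.Pretriangulated Opposite

noncomputable section

namespace Groth.Agent.EssConstTri

variable {D : Type u} [Category.{v} D]

lemma tr_comp (X : ARSys.PS D) {a b c : ℕ} (h : a ≤ b) (h' : b ≤ c) :
    ARSys.tr X h' ≫ ARSys.tr X h = ARSys.tr X (h.trans h') := by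
  rw [← X.map_comp]
  rfl

lemma tr_comp_assoc (X : ARSys.PS D) {a b c : ℕ} (h : a ≤ b) (h' : b ≤ c) {T : D}
    (f : X.obj (op a) ⟶ T) :
    ARSys.tr X h' ≫ ARSys.tr X h ≫ f = ARSys.tr X (h.trans h') ≫ f := by
  rw [← Category.assoc, tr_comp]

lemma tr_nat {X Y : ARSys.PS D} (f : X ⟶ Y) {a b : ℕ} (h : a ≤ b) :
    ARSys.tr X h ≫ f.app (op a) = f.app (op b) ≫ ARSys.tr Y h :=
  f.naturality _

variable {X : ARSys.PS D} {A : D} (c : (Functor.const ℕᵒᵖ).obj A ⟶ X) {i : ℕ} (s : X.obj (op i) ⟶ A)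

lemma c_tr {a b : ℕ} (h : a ≤ b) : c.app (op b) ≫ ARSys.tr X h = c.app (op a) :=
  (c.naturality (homOfLE h).op).symm.trans (Category.id_comp _)

lemma c_proj (hs : c.app (op i) ≫ s = 𝟙 A) {b : ℕ} (h : i ≤ b) :
    c.app (op b) ≫ ARSys.tr X h ≫ s = 𝟙 A := by
  rw [← Category.assoc, c_tr c h, hs]

lemma proj_large (hj : ∀ j : ℕ, ∃ (k : ℕ) (hi : i ≤ k) (hj : j ≤ k),
      ARSys.tr X hj = ARSys.tr X hi ≫ s ≫ c.app (op j)) (j : ℕ) :
    ∃ k : ℕ, i ≤ k ∧ j ≤ k ∧ ∀ (b : ℕ) (_ : k ≤ b) (hi : i ≤ b) (hjb : j ≤ b),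
      ARSys.tr X hjb = ARSys.tr X hi ≫ s ≫ c.app (op j) := by
  obtain ⟨k, hi, hjk, e⟩ := hj j
  refine ⟨k, hi, hjk, fun b hb hib hjb => ?_⟩
  rw [← tr_comp X hjk hb, e, tr_comp_assoc]

variable [Preadditive D] [HasZeroObject D] [HasShift D ℤ]
  [∀ n : ℤ, (shiftFunctor D n).Additive] [Pretriangulated D]

theorem middle (X Y Z : ARSys.PS D) (f : X ⟶ Y) (g : Y ⟶ Z) (h : Z ⟶ X ⋙ shiftFunctor D (1 : ℤ))
    (hT : ∀ n : ℕ, Triangle.mk (f.app (op n)) (g.app (op n)) (h.app (op n)) ∈ distTriang D)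
    (A : D) (cA : (Functor.const ℕᵒᵖ).obj A ⟶ X) (hA : DerCA.IsEssConstant X A cA)
    (C : D) (cC : (Functor.const ℕᵒᵖ).obj C ⟶ Z) (hC : DerCA.IsEssConstant Z C cC) :
    ∃ (B : D) (cB : (Functor.const ℕᵒᵖ).obj B ⟶ Y), DerCA.IsEssConstant Y B cB := by
  obtain ⟨iA, sA, hsA, hjA⟩ := hA
  obtain ⟨iC, sC, hsC, hjC⟩ := hC
  obtain ⟨k, hkC, hkA, hk⟩ := proj_large cC sC hjC iA
  let pA : ∀ m, k ≤ m → (X.obj (op m) ⟶ A) := fun m hm => ARSys.tr X (hkA.trans hm) ≫ sA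
  let pC : ∀ m, k ≤ m → (Z.obj (op m) ⟶ C) := fun m hm => ARSys.tr Z (hkC.trans hm) ≫ sC
  let δ : C ⟶ A⟦(1 : ℤ)⟧ := cC.app (op iA) ≫ h.app (op iA) ≫ sA⟦(1 : ℤ)⟧'
  have hδ : ∀ m (hm : k ≤ m), pC m hm ≫ δ = h.app (op m) ≫ (pA m hm)⟦(1 : ℤ)⟧' := by
    intro m hm
    have e := hk m hm (hkC.trans hm) (hkA.trans hm)
    simp only [pC, δ, pA, Functor.map_comp]
    rw [Category.assoc, ← reassoc_of% e, ← Category.assoc, tr_nat h (hkA.trans hm)]
    simp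
  obtain ⟨B, a, g', hB⟩ := distinguished_cocone_triangle₂ δ
  obtain ⟨rk, hr1, hr2⟩ : ∃ rk : Y.obj (op k) ⟶ B,
      f.app (op k) ≫ rk = pA k le_rfl ≫ a ∧ g.app (op k) ≫ pC k le_rfl = rk ≫ g' :=
    complete_distinguished_triangle_morphism₂
      (Triangle.mk (f.app (op k)) (g.app (op k)) (h.app (op k))) (Triangle.mk a g' δ) (hT k) hB
      (pA k le_rfl) (pC k le_rfl) (hδ k le_rfl).symm
  let r : ∀ m, k ≤ m → (Y.obj (op m) ⟶ B) := fun m hm => ARSys.tr Y hm ≫ rk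
  have hrf : ∀ m (hm : k ≤ m), f.app (op m) ≫ r m hm = pA m hm ≫ a := fun m hm => by
    simp only [r, pA]
    rw [← Category.assoc, ← tr_nat, Category.assoc, hr1]
    simp only [pA, ← Category.assoc, tr_comp]
  have hrg : ∀ m (hm : k ≤ m), r m hm ≫ g' = g.app (op m) ≫ pC m hm := fun m hm => by
    simp only [r]
    rw [Category.assoc, ← hr2, ← Category.assoc, tr_nat g hm]
    simp only [pC, Category.assoc, tr_comp_assoc]
  have hr_tr : ∀ m b (hm : k ≤ m) (hb : m ≤ b), ARSys.tr Y hb ≫ r m hm = r b (hm.trans hb) :=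
    fun m b hm hb => tr_comp_assoc Y hm hb rk
  have epiC : ∀ m (hm : k ≤ m), Epi (pC m hm) := fun m hm =>
    ({ section_ := cC.app (op m), id := c_proj cC sC hsC (hkC.trans hm) } : SplitEpi (pC m hm)).epi
  have inj : ∀ (T : D) (β : B ⟶ T) (m : ℕ) (hm : k ≤ m), r m hm ≫ β = 0 → β = 0 := by
    intro T β m hm hβ
    have h0 : a ≫ β = 0 := by
      have e : pA m hm ≫ a ≫ β = 0 := by rw [← reassoc_of% (hrf m hm), hβ, comp_zero]
      exact ((Category.id_comp (a ≫ β)).symm.trans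
        ((congrArg (· ≫ a ≫ β) (c_proj cA sA hsA (hkA.trans hm))).symm.trans
          ((Category.assoc _ _ _).trans ((congrArg (cA.app (op m) ≫ ·) e).trans comp_zero))))
    obtain ⟨γ, rfl⟩ : ∃ γ : C ⟶ T, β = g' ≫ γ := Triangle.yoneda_exact₂ _ hB β h0
    have h1 : g.app (op m) ≫ pC m hm ≫ γ = 0 := by rw [← reassoc_of% (hrg m hm), hβ]
    obtain ⟨ω, hω⟩ : ∃ ω : (X.obj (op m))⟦(1 : ℤ)⟧ ⟶ T, pC m hm ≫ γ = h.app (op m) ≫ ω :=
      Triangle.yoneda_exact₃ _ (hT m) (pC m hm ≫ γ) h1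
    obtain ⟨M, hMi, hMm, hM⟩ := proj_large cA sA hjA m
    let b := max M m
    have hb : k ≤ b := hm.trans (le_max_right _ _)
    have e : pC b hb ≫ γ = pC b hb ≫ δ ≫ (cA.app (op m))⟦(1 : ℤ)⟧' ≫ ω := by
      have e1 : pC b hb ≫ γ = h.app (op b) ≫ (ARSys.tr X (le_max_right M m))⟦(1 : ℤ)⟧' ≫ ω := by
        rw [← reassoc_of% (tr_nat h (le_max_right M m)), ← hω]
        simp only [pC, ← Category.assoc, tr_comp]
      rw [e1, reassoc_of% (hδ b hb), hM b (le_max_left _ _) (hkA.trans hb) (le_max_right _ _)]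
      simp [pA]
    haveI := epiC b hb
    rw [(cancel_epi (pC b hb)).1 e]
    exact (reassoc_of% (comp_distTriang_mor_zero₂₃ _ hB)) _ |>.trans zero_comp
  have surj : ∀ n, ∃ (β : B ⟶ Y.obj (op n)) (b : ℕ) (hb : k ≤ b) (hn : n ≤ b),
      r b hb ≫ β = ARSys.tr Y hn := by
    intro n
    obtain ⟨M, hMi, hMn, hM⟩ := proj_large cA sA hjA n
    let m := max M k
    have hm : k ≤ m := le_max_right _ _
    have hnm : n ≤ m := hMn.trans (le_max_left _ _)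
    have hα : f.app (op m) ≫ ARSys.tr Y hnm = pA m hm ≫ cA.app (op n) ≫ f.app (op n) := by
      rw [← tr_nat, hM m (le_max_left _ _) (hkA.trans hm) hnm]
      simp [pA]
    let α := cA.app (op n) ≫ f.app (op n)
    have hδα : δ ≫ α⟦(1 : ℤ)⟧' = 0 := by
      have e : pC m hm ≫ δ ≫ α⟦(1 : ℤ)⟧' = 0 := by
        have hfh : h.app (op m) ≫ (f.app (op m))⟦(1 : ℤ)⟧' = 0 :=
          comp_distTriang_mor_zero₃₁ _ (hT m)
        rw [reassoc_of% (hδ m hm), ← Functor.map_comp, ← hα, Functor.map_comp, reassoc_of% hfh,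
          zero_comp]
      haveI := epiC m hm
      exact (cancel_epi (pC m hm)).1 (e.trans comp_zero.symm)
    obtain ⟨e', he'⟩ : ∃ e' : B⟦(1 : ℤ)⟧ ⟶ (Y.obj (op n))⟦(1 : ℤ)⟧, α⟦(1 : ℤ)⟧' = (-a⟦(1 : ℤ)⟧') ≫ e' :=
      Triangle.yoneda_exact₂ _ (rot_of_distTriang _ (rot_of_distTriang _ hB)) (α⟦(1 : ℤ)⟧') hδα
    obtain ⟨β₀, rfl⟩ := (shiftFunctor D (1 : ℤ)).map_surjective e'
    have hβ₀ : a ≫ (-β₀) = α := (shiftFunctor D (1 : ℤ)).map_injective (by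
      rw [he']
      simp)
    let y := ARSys.tr Y hnm - r m hm ≫ (-β₀)
    have hy : f.app (op m) ≫ y = 0 := by
      rw [Preadditive.comp_sub, hα, reassoc_of% (hrf m hm), hβ₀, sub_self]
    obtain ⟨z, hz⟩ : ∃ z : Z.obj (op m) ⟶ Y.obj (op n), y = g.app (op m) ≫ z :=
      Triangle.yoneda_exact₂ _ (hT m) y hy
    obtain ⟨M', hM'i, hM'm, hM'⟩ := proj_large cC sC hjC m
    let b := max M' m
    have hbm : m ≤ b := le_max_right _ _
    have hb : k ≤ b := hm.trans hbm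
    refine ⟨-β₀ + g' ≫ cC.app (op m) ≫ z, b, hb, hnm.trans hbm, ?_⟩
    rw [Preadditive.comp_add, reassoc_of% (hrg b hb)]
    have e : g.app (op b) ≫ pC b hb ≫ cC.app (op m) ≫ z = ARSys.tr Y hbm ≫ y := by
      rw [hz, reassoc_of% (tr_nat g hbm), hM' b (le_max_left _ _) (hkC.trans hb) hbm]
      simp [pC]
    rw [e, Preadditive.comp_sub, tr_comp, reassoc_of% (hr_tr m b hm hbm)]
    abel
  choose cB bd hbd hnd hcB using surj
  have uniq : ∀ n (β : B ⟶ Y.obj (op n)) (b : ℕ) (hb : k ≤ b) (hn : n ≤ b),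
      r b hb ≫ β = ARSys.tr Y hn → β = cB n := by
    intro n β b hb hn e
    refine sub_eq_zero.1 (inj _ _ (max b (bd n)) (hb.trans (le_max_left _ _)) ?_)
    rw [Preadditive.comp_sub, sub_eq_zero]
    conv_lhs => rw [← hr_tr b _ hb (le_max_left _ _), Category.assoc, e, tr_comp]
    conv_rhs => rw [← hr_tr (bd n) _ (hbd n) (le_max_right _ _), Category.assoc, hcB n, tr_comp]
  refine ⟨B, { app := fun n => cB n.unop, naturality := fun n n' φ => ?_ }, k, rk, ?_, fun j => ?_⟩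
  · refine (Category.id_comp _).trans (uniq n'.unop _ (bd n.unop) (hbd _)
      ((leOfHom φ.unop).trans (hnd _)) ?_).symm
    rw [← Category.assoc, hcB n.unop]
    exact tr_comp Y (leOfHom φ.unop) (hnd n.unop)
  · refine sub_eq_zero.1 (inj _ _ (bd k) (hbd k) ?_)
    show r _ _ ≫ (cB k ≫ rk - 𝟙 B) = 0
    rw [Preadditive.comp_sub, ← Category.assoc, hcB, Category.comp_id]
    exact sub_self _
  · refine ⟨bd j, hbd j, hnd j, ?_⟩
    show _ = ARSys.tr Y (hbd j) ≫ rk ≫ cB j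
    rw [← hcB j]
    exact Category.assoc _ _ _

end Groth.Agent.EssConstTri
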